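import Cfsg.Agent.ThH99.CW.Facts0
import Cfsg.Agent.ThH99.CW.Facts1

/-! Generated: the orbit. -/

set_option autoImplicit false
set_option maxRecDepth 100000

namespace CfsgLib.ThH99.CW

open CfsgLib.CosetEnum

theorem facts : FactsChecked epF (fun x => x ^^^ 1) words 40 9595 :=
  (factsUpTo9595 (factsUpTo8192 FactsChecked.zero))

theorem paths0 : checkPaths epF (fun x => x ^^^ 1) 9595 orbitWords 1 nodeF nextF 1 0 [0x80000a000150003b0004700103003a70096d012f901d6f028df028e001e5c01e5901f190337304ad903c5802df302e5b02eb902eb6035a5035fd037370372e02636026330265302657029e5030ab037d904af402e72027620273b027c102c0b04ad301ebc0142c013fe01d7301d70012f80096c003a600104000460003a000140000a0000800006000090000b000080000600009000060003d] = true := by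
  decide +kernel

theorem paths : PathsChecked epF (fun x => x ^^^ 1) 9595 orbitWords 1 nodeF nextF 1 1 :=
  (PathsChecked.app _ 1 PathsChecked.zero paths0 rfl)

theorem node_zero : nodeF 0 = 0 := by decide +kernel

end CfsgLib.ThH99.CW
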